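import Cfsg.Prelude.Def_Solvable
import Cfsg.Agent.Lib.CharTools.Indicator
import Cfsg.Agent.Lib.Blk83.PairCount
import Cfsg.Agent.Lib.Solvable.Core
import Cfsg.Agent.Lib.SuzukiSub.Basic
import Cfsg.Agent.S0060

/-!
# A larger degree below a kernel outside the Fitting subgroup
-/

set_option autoImplicit false

open scoped ComplexConjugate Classical Pointwise
open CfsgLib

namespace CfsgLib.DegFit

universe u

variable {G : Type u} [Group G] [Finite G]

/-- Column orthogonality as a count of conjugating elements. -/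
theorem sum_mul_conj_count [Fintype G] (x h : G) :
    ∑ ψ : Cfsg.IrrCharacter G, (ψ : G → ℂ) x * conj ((ψ : G → ℂ) h) =
      ((Finset.univ.filter fun g : G => g * x * g⁻¹ = h).card : ℂ) := by
  rw [CfsgLib.Char.sum_mul_conj x h]
  split_ifs with hc
  · obtain ⟨g₀, rfl⟩ := isConj_iff.1 hc
    rw [← Fintype.card_subtype, ← Nat.card_eq_fintype_card]
    refine congrArg _ (Nat.card_congr
      { toFun := fun c => ⟨g₀ * c.1, by
          have hc := Subgroup.mem_centralizer_singleton_iff.1 c.2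
          calc g₀ * (c : G) * x * (g₀ * c)⁻¹ = g₀ * ((c : G) * x) * (c : G)⁻¹ * g₀⁻¹ := by group
            _ = g₀ * (x * c) * (c : G)⁻¹ * g₀⁻¹ := by rw [hc]
            _ = g₀ * x * g₀⁻¹ := by group⟩
        invFun := fun g => ⟨g₀⁻¹ * g.1, by
          rw [Subgroup.mem_centralizer_singleton_iff]
          calc g₀⁻¹ * g.1 * x = g₀⁻¹ * (g.1 * x * g.1⁻¹) * g.1 := by group
            _ = g₀⁻¹ * (g₀ * x * g₀⁻¹) * g.1 := by rw [g.2]
            _ = x * (g₀⁻¹ * g.1) := by group⟩
        left_inv := fun c => Subtype.ext (inv_mul_cancel_left _ _)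
        right_inv := fun g => Subtype.ext (mul_inv_cancel_left _ _) })
  · rw [Finset.filter_false_of_mem fun g _ hg => hc (isConj_iff.2 ⟨g, hg⟩)]
    simp

/-- If the character is constant on one intersection of `P` with a conjugate of `H`, some
irreducible character meets its restriction to `H` and has a fixed point on `P`. -/
theorem exists_pair [Fintype G] (χ : Cfsg.IrrCharacter G) (H P : Subgroup G) [Fintype H]
    (g₀ : G) (hg₀ : ∀ x ∈ P, g₀ * x * g₀⁻¹ ∈ H → (χ : G → ℂ) x = (χ : G → ℂ) 1) :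
    ∃ ψ : Cfsg.IrrCharacter G,
      Cfsg.classInner (fun h : H => (χ : G → ℂ) h) (fun h : H => (ψ : G → ℂ) h) ≠ 0 ∧
      ∑ x ∈ Finset.univ.filter (· ∈ P), (ψ : G → ℂ) x ≠ 0 := by
  have hQ : ∀ g : G, ∃ m : ℕ,
      ∑ x ∈ Finset.univ.filter (fun x => x ∈ P ∧ g * x * g⁻¹ ∈ H), (χ : G → ℂ) x = (m : ℂ) := by
    intro g
    obtain ⟨m, hm⟩ := CfsgLib.Blk83.exists_nat_sum_eq χ
      (P ⊓ H.comap (MulAut.conj g).toMonoidHom)
    refine ⟨Nat.card ↥(P ⊓ H.comap (MulAut.conj g).toMonoidHom) * m, ?_⟩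
    rw [Nat.cast_mul, ← hm]
    exact Finset.sum_subtype _ (fun x => by simp [Subgroup.mem_inf]) _
  choose m hm using hQ
  have hpos : 0 < m g₀ := by
    have h1 := hm g₀
    rw [Finset.sum_congr rfl (g := fun _ => (χ : G → ℂ) 1) (fun x hx =>
      hg₀ x (Finset.mem_filter.1 hx).2.1 (Finset.mem_filter.1 hx).2.2), Finset.sum_const,
      nsmul_eq_mul, ← CharTools.irr_degree_cast, ← Nat.cast_mul, Nat.cast_inj] at h1
    rw [← h1]
    exact Nat.mul_pos (Finset.card_pos.2 ⟨1, by simp⟩) (CharTools.irr_degree_pos χ)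
  by_contra hcon
  push Not at hcon
  have hzero : ∑ ψ : Cfsg.IrrCharacter G, (∑ x ∈ Finset.univ.filter (· ∈ P), (ψ : G → ℂ) x) *
      (∑ h : H, (χ : G → ℂ) h * conj ((ψ : G → ℂ) h)) = 0 := by
    refine Finset.sum_eq_zero fun ψ _ => ?_
    by_cases hc : Cfsg.classInner (fun h : H => (χ : G → ℂ) h) (fun h : H => (ψ : G → ℂ) h) = 0
    · rw [Cfsg.classInner, mul_eq_zero] at hc
      rw [hc.resolve_left (inv_ne_zero (Nat.cast_ne_zero.2 Nat.card_pos.ne')), mul_zero]
    · rw [hcon ψ hc, zero_mul]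
  have hkey : ∀ x : G, ∑ h : H, ∑ ψ : Cfsg.IrrCharacter G,
      (ψ : G → ℂ) x * ((χ : G → ℂ) h * conj ((ψ : G → ℂ) h)) =
      ∑ g : G, if g * x * g⁻¹ ∈ H then (χ : G → ℂ) x else 0 := by
    intro x
    have h1 : ∀ h : H, ∑ ψ : Cfsg.IrrCharacter G,
        (ψ : G → ℂ) x * ((χ : G → ℂ) h * conj ((ψ : G → ℂ) h)) =
        ∑ g : G, if g * x * g⁻¹ = (h : G) then (χ : G → ℂ) x else 0 := by
      intro h
      rw [Finset.sum_congr rfl (fun ψ _ => mul_left_comm _ _ _), ← Finset.mul_sum,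
        sum_mul_conj_count, Finset.natCast_card_filter, Finset.mul_sum]
      refine Finset.sum_congr rfl fun g _ => ?_
      split_ifs with hg
      · rw [mul_one, ← hg]
        exact CfsgLib.Char.IsIrrCharacter.isClassFunction χ.2 x g
      · rw [mul_zero]
    rw [Finset.sum_congr rfl fun h _ => h1 h, Finset.sum_comm]
    refine Finset.sum_congr rfl fun g _ => ?_
    by_cases hg : g * x * g⁻¹ ∈ H
    · rw [if_pos hg, Finset.sum_eq_single ⟨_, hg⟩]
      · simp
      · intro b _ hb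
        rw [if_neg fun e => hb (Subtype.ext e.symm)]
      · simp
    · rw [if_neg hg]
      exact Finset.sum_eq_zero fun h _ => if_neg fun e => hg (by rw [e]; exact h.2)
  have htot : ((∑ g : G, m g : ℕ) : ℂ) = 0 := by
    rw [Nat.cast_sum, ← hzero]
    simp only [← hm, Finset.mul_sum]
    simp only [Finset.sum_mul]
    rw [Finset.sum_congr rfl (fun ψ _ => Finset.sum_comm), Finset.sum_comm (t := Finset.univ.filter (· ∈ P))]
    rw [Finset.sum_congr rfl (fun x _ => Finset.sum_comm.trans (hkey x))]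
    rw [Finset.sum_comm (s := Finset.univ.filter (· ∈ P))]
    refine Finset.sum_congr rfl fun g _ => ?_
    rw [← Finset.filter_filter, Finset.sum_filter]
  rw [Nat.cast_eq_zero] at htot
  exact hpos.ne' (Finset.sum_eq_zero_iff.1 htot g₀ (Finset.mem_univ _))

variable {p : ℕ} [Fact p.Prime]

/-- The kernel of a character meeting the restriction of `χ` to a Sylow normalizer lies in `K`. -/
theorem kernel_le (K M : Subgroup G) [K.Normal] [M.Normal] (P : Sylow p M)
    (hM : M = K ⊔ (P : Subgroup M).map M.subtype) (L : Subgroup G) [L.Normal]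
    (hLH : L ⊓ Subgroup.normalizer (((P : Subgroup M).map M.subtype : Subgroup G) : Set G) ≤ K) :
    L ≤ K := by
  set Pm := (P : Subgroup M).map M.subtype with hPm
  have hKM : K ≤ M := le_sup_left.trans hM.ge
  have hPmM : Pm ≤ M := Subgroup.map_subtype_le _
  have hPH : Pm ≤ Subgroup.normalizer (Pm : Set G) := Subgroup.le_normalizer
  set N := L ⊓ M with hN
  haveI hNn : N.Normal := inferInstance
  -- `N ≤ K`
  have hNK : N ≤ K := by
    intro x hx
    haveI : (K.subgroupOf M).Normal := inferInstance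
    haveI hN' : (N.subgroupOf M).Normal := inferInstance
    set T := N.subgroupOf M
    have hTP : ((P : Subgroup M) ⊓ T) ≤ K.subgroupOf M := fun y hy =>
      Subgroup.mem_subgroupOf.2 (hLH ⟨(Subgroup.mem_subgroupOf.1 hy.2).1, hPH ⟨y, hy.1, rfl⟩⟩)
    have hq : IsPGroup p (M ⧸ K.subgroupOf M) := by
      have hsurj : Function.Surjective
          ((QuotientGroup.mk' (K.subgroupOf M)).comp (P : Subgroup M).subtype) := by
        intro q
        obtain ⟨y, rfl⟩ := QuotientGroup.mk_surjective q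
        obtain ⟨k, hk, z, hz, hkz⟩ :=
          (Subgroup.mem_sup_of_normal_left (t := Pm)).1 (hM ▸ y.2 : (y : G) ∈ K ⊔ Pm)
        obtain ⟨z', hz', rfl⟩ := hz
        refine ⟨⟨z', hz'⟩, QuotientGroup.eq.2 (Subgroup.mem_subgroupOf.2 ?_)⟩
        have h := Subgroup.Normal.conj_mem ‹K.Normal› k hk (z' : G)⁻¹
        simp only [Subgroup.coe_mul, Subgroup.coe_inv, Subgroup.coe_subtype] at h hkz ⊢
        rw [← hkz]
        simpa [mul_assoc] using h
      exact P.2.of_surjective _ hsurj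
    have hT : T ≤ K.subgroupOf M := by
      obtain ⟨Q⟩ := (inferInstance : Nonempty (Sylow p T))
      have hQp : IsPGroup p ((Q : Subgroup T).map T.subtype) := Q.2.map _
      obtain ⟨R, hR⟩ := hQp.exists_le_sylow
      obtain ⟨m, hm⟩ := MulAction.exists_smul_eq M R P
      have hQK : ((Q : Subgroup T).map T.subtype) ≤ K.subgroupOf M := by
        intro y hy
        have h1 : m * y * m⁻¹ ∈ (P : Subgroup M) ⊓ T := by
          refine ⟨?_, hN'.conj_mem y (Subgroup.map_subtype_le _ hy) m⟩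
          rw [← hm]
          exact ⟨y, hR hy, rfl⟩
        have h2 := (inferInstance : (K.subgroupOf M).Normal).conj_mem _ (hTP h1) m⁻¹
        simpa [mul_assoc] using h2
      let f := (QuotientGroup.mk' (K.subgroupOf M)).comp T.subtype
      have hker : (Q : Subgroup T) ≤ f.ker := fun y hy =>
        (QuotientGroup.eq_one_iff _).2 (hQK ⟨y, hy, rfl⟩)
      have h1 : ¬ p ∣ Nat.card f.range := fun hd =>
        Q.not_dvd_index (hd.trans ((Subgroup.index_ker f).symm.dvd.trans
          (Subgroup.index_dvd_of_le hker)))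
      obtain ⟨j, hj⟩ := IsPGroup.iff_card.1 (hq.to_subgroup f.range)
      have h2 : Nat.card f.range = 1 := by
        rcases Nat.eq_zero_or_pos j with rfl | hj0
        · rw [hj, pow_zero]
        · exact absurd (hj ▸ dvd_pow_self p hj0.ne') h1
      intro y hy
      refine (QuotientGroup.eq_one_iff _).1 ?_
      have h3 : f ⟨y, hy⟩ ∈ f.range := ⟨_, rfl⟩
      rwa [Subgroup.card_eq_one.1 h2, Subgroup.mem_bot] at h3
    exact Subgroup.mem_subgroupOf.1 (hT (show (⟨x, hx.2⟩ : M) ∈ T from hx))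
  -- Frattini
  intro l hl
  have hmemM : ∀ y ∈ Pm, l * y * l⁻¹ ∈ M := fun y hy => Subgroup.Normal.conj_mem ‹M.Normal› y (hPmM hy) l
  have hlP : ∀ y ∈ Pm, l * y * l⁻¹ ∈ N ⊔ Pm := fun y hy => by
    have h1 : l * y * l⁻¹ * y⁻¹ ∈ N := by
      refine ⟨?_, M.mul_mem (hmemM y hy) (M.inv_mem (hPmM hy))⟩
      have h := L.mul_mem hl (Subgroup.Normal.conj_mem ‹L.Normal› l⁻¹ (L.inv_mem hl) y)
      simpa [mul_assoc] using h
    have h2 := Subgroup.mul_mem_sup h1 hy
    rwa [inv_mul_cancel_right] at h2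
  set U := (N ⊔ Pm).subgroupOf M
  have hPU : (P : Subgroup M) ≤ U := fun y hy =>
    Subgroup.mem_subgroupOf.2 (Subgroup.mem_sup_right (show (y : G) ∈ Pm from ⟨y, hy, rfl⟩))
  set α : M ≃* M := MulAut.conjNormal l
  have hP2 : (P : Subgroup M).map α.toMonoidHom ≤ U := by
    rintro _ ⟨y, hy, rfl⟩
    refine Subgroup.mem_subgroupOf.2 ?_
    simpa [α] using hlP y ⟨y, hy, rfl⟩
  set hPlS := P.subtype hPU
  obtain ⟨R, hR⟩ := ((P.2.map α.toMonoidHom).comap_subtype (K := U)).exists_le_sylow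
  obtain ⟨v, hv⟩ := MulAction.exists_smul_eq U R hPlS
  have hvl : ((v : M) : G) * l ∈ Subgroup.normalizer (Pm : Set G) := by
    have hinj : (fun y : G => ((v : M) : G) * l * y * (((v : M) : G) * l)⁻¹) '' (Pm : Set G) ⊆ Pm := by
      rintro _ ⟨_, ⟨y, hy, rfl⟩, rfl⟩
      have hyR : (⟨α y, hP2 ⟨y, hy, rfl⟩⟩ : U) ∈ (R : Subgroup U) := hR ⟨y, hy, rfl⟩
      have h1 : v * ⟨α y, hP2 ⟨y, hy, rfl⟩⟩ * v⁻¹ ∈ (hPlS : Subgroup U) := by
        rw [← hv]
        exact ⟨_, hyR, rfl⟩
      rw [show (hPlS : Subgroup U) = (P : Subgroup M).subgroupOf U from Sylow.coe_subtype P hPU,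
        Subgroup.mem_subgroupOf] at h1
      refine ⟨_, h1, ?_⟩
      simp [α, mul_assoc]
    exact Subgroup.mem_normalizer_iff.2 fun y => ⟨fun hy => hinj ⟨y, hy, rfl⟩, fun hy => by
      have hset : (fun y : G => ((v : M) : G) * l * y * (((v : M) : G) * l)⁻¹) '' (Pm : Set G) = Pm := by
        refine Set.eq_of_subset_of_ncard_le hinj ?_ (Set.toFinite _)
        rw [Set.ncard_image_of_injective]
        intro a b hab
        simpa using hab
      obtain ⟨z, hz, hzy⟩ := hset.ge hy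
      have : z = y := by simpa using hzy
      exact this ▸ hz⟩
  obtain ⟨n, hn, z, hz, hnz⟩ :=
    (Subgroup.mem_sup_of_normal_left (t := Pm)).1 (Subgroup.mem_subgroupOf.1 v.2)
  -- write `v * l` in terms of an element of `L` normalizing `Pm`
  have hl' : z⁻¹ * n * z * l ∈ L ⊓ Subgroup.normalizer (Pm : Set G) := by
    refine ⟨L.mul_mem ?_ hl, ?_⟩
    · simpa using (Subgroup.Normal.conj_mem hNn n hn z⁻¹).1
    · have h := mul_mem (inv_mem (hPH hz)) hvl
      rw [← hnz] at h
      simpa [mul_assoc] using h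
  have h4 : z⁻¹ * n * z ∈ K := by
    simpa using hNK (Subgroup.Normal.conj_mem hNn n hn z⁻¹)
  have h5 := K.mul_mem (K.inv_mem h4) (hLH hl')
  simpa [mul_assoc] using h5

/-- Irreducibility of the restriction to a supplement of a subgroup of the kernel. -/
theorem isIrrCharacter_restrict (χ : Cfsg.IrrCharacter G) (K H : Subgroup G) [K.Normal]
    (hK : ∀ k ∈ K, (χ : G → ℂ) k = (χ : G → ℂ) 1) (hHK : K ⊔ H = ⊤) :
    Cfsg.IsIrrCharacter H (fun h : H => (χ : G → ℂ) h) := by
  obtain ⟨η, hη⟩ := CharTools.exists_descend K χ.2 hK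
  have hsurj : Function.Surjective ((QuotientGroup.mk' K).comp H.subtype) := by
    intro q
    obtain ⟨g, rfl⟩ := QuotientGroup.mk_surjective q
    obtain ⟨k, hk, h, hh, rfl⟩ :=
      (Subgroup.mem_sup_of_normal_left (t := H)).1 (hHK ▸ Subgroup.mem_top g : g ∈ K ⊔ H)
    exact ⟨⟨h, hh⟩, by simp [(QuotientGroup.eq_one_iff k).2 hk]⟩
  have h := CharTools.isIrrCharacter_comp _ hsurj η.2
  simpa [hη] using h

/-- The Sylow normalizer supplements the normal subgroup. -/
theorem sup_normalizer_eq_top (K M : Subgroup G) [M.Normal] (P : Sylow p M)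
    (hM : M = K ⊔ (P : Subgroup M).map M.subtype) :
    K ⊔ Subgroup.normalizer (((P : Subgroup M).map M.subtype : Subgroup G) : Set G) = ⊤ := by
  rw [eq_top_iff]
  calc ⊤ = Subgroup.normalizer (((P : Subgroup M).map M.subtype : Subgroup G) : Set G) ⊔ M :=
        (Sylow.normalizer_sup_eq_top P).symm
    _ ≤ _ := sup_le le_sup_right (hM.le.trans (sup_le le_sup_left
          (Subgroup.le_normalizer.trans le_sup_right)))

end CfsgLib.DegFit
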