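import Cfsg.Agent.Lib.DegFit.Basic
import Cfsg.Agent.Lib.Char.Kernel

/-!
# Isaacs 12.19 in the language of kernels
-/

set_option autoImplicit false

open scoped ComplexConjugate Classical Pointwise
open CfsgLib

namespace CfsgLib.DegFit

universe u

variable {G : Type u} [Group G] [Finite G] {p : ℕ} [Fact p.Prime]

/-- The cyclic group of an element of `p`-power order is a `p`-group. -/
theorem isPGroup_zpowers_of_pow {X : Type*} [Group X] {g : X} {k : ℕ} (h : g ^ p ^ k = 1) :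
    IsPGroup p (Subgroup.zpowers g) := by
  intro y
  obtain ⟨i, hi⟩ := Subgroup.mem_zpowers_iff.1 y.2
  refine ⟨k, Subtype.ext ?_⟩
  rw [SubmonoidClass.coe_pow, ← hi, ← zpow_natCast, ← zpow_mul, mul_comm, zpow_mul, zpow_natCast, h,
    one_zpow]
  rfl

/-- A constituent of a supplement restriction has degree at least that of `χ`, with equality only
for equal restrictions; its kernel meets the supplement inside the kernel of `χ`. -/
theorem pairing_facts [Fintype G] (χ ψ : Cfsg.IrrCharacter G) (K H : Subgroup G) [K.Normal]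
    [Fintype H] (hK : ∀ k ∈ K, (χ : G → ℂ) k = (χ : G → ℂ) 1) (hKH : K ⊔ H = ⊤)
    (h : Cfsg.classInner (fun h : H => (χ : G → ℂ) h) (fun h : H => (ψ : G → ℂ) h) ≠ 0) :
    (Cfsg.charDegree (χ : G → ℂ) < Cfsg.charDegree (ψ : G → ℂ) ∨
      ∀ h : H, (ψ : G → ℂ) h = (χ : G → ℂ) h) ∧
    ∀ x ∈ H, (ψ : G → ℂ) x = (ψ : G → ℂ) 1 → (χ : G → ℂ) x = (χ : G → ℂ) 1 := by
  let θ : Cfsg.IrrCharacter H := ⟨_, isIrrCharacter_restrict χ K H hK hKH⟩
  have hψ : Cfsg.IsCharacter H (fun h : H => (ψ : G → ℂ) h) :=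
    CfsgLib.Char.IsCharacter.restrict (CfsgLib.Char.IsIrrCharacter.isCharacter ψ.2) H
  have h' : Cfsg.classInner (fun h : H => (ψ : G → ℂ) h) (θ : H → ℂ) ≠ 0 := by
    rw [← CfsgLib.Char.classInner_conj_symm]
    simpa [θ] using h
  refine ⟨?_, fun x hx hxψ => ?_⟩
  · by_cases hle : Cfsg.charDegree (fun h : H => (ψ : G → ℂ) h) ≤ Cfsg.charDegree (θ : H → ℂ)
    · exact Or.inr (congrFun (CharTools.eq_of_constituent_of_degree_le hψ θ h' hle))
    · left
      simpa [θ, Cfsg.charDegree] using hle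
  · exact CharTools.eq_apply_one_of_constituent hψ (k := ⟨x, hx⟩) hxψ θ h'

/-- Equal restrictions to a supplement of a common kernel subgroup give equal characters. -/
theorem eq_of_restrict_eq (χ ψ : Cfsg.IrrCharacter G) (K H : Subgroup G) [K.Normal]
    (hK : ∀ k ∈ K, (χ : G → ℂ) k = (χ : G → ℂ) 1) (hKψ : ∀ k ∈ K, (ψ : G → ℂ) k = (ψ : G → ℂ) 1)
    (hKH : K ⊔ H = ⊤) (h : ∀ h : H, (ψ : G → ℂ) h = (χ : G → ℂ) h) : ψ = χ := by
  refine Subtype.ext (funext fun g => ?_)
  obtain ⟨y, hy, k, hk, rfl⟩ :=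
    (Subgroup.mem_sup_of_normal_right (s := H) (t := K)).1
      ((sup_comm H K).trans hKH ▸ Subgroup.mem_top g : g ∈ H ⊔ K)
  rw [CharTools.mul_ker (CfsgLib.Char.IsIrrCharacter.isCharacter ψ.2) (hKψ k hk),
    CharTools.mul_ker (CfsgLib.Char.IsIrrCharacter.isCharacter χ.2) (hK k hk)]
  exact h ⟨y, hy⟩

/-- The kernel part of the conclusion. -/
theorem exists_kernel_lt (χ ψ : Cfsg.IrrCharacter G) (K : Subgroup G) [K.Normal]
    (hK : ∀ g, g ∈ K ↔ (χ : G → ℂ) g = (χ : G → ℂ) 1)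
    (M : Subgroup G) [M.Normal] (P : Sylow p M)
    (hM : M = K ⊔ (P : Subgroup M).map M.subtype)
    (hker : ∀ x ∈ Subgroup.normalizer (((P : Subgroup M).map M.subtype : Subgroup G) : Set G),
      (ψ : G → ℂ) x = (ψ : G → ℂ) 1 → (χ : G → ℂ) x = (χ : G → ℂ) 1)
    (hnot : ¬ ∀ k ∈ K, (ψ : G → ℂ) k = (ψ : G → ℂ) 1) :
    ∃ L : Subgroup G, (∀ g, g ∈ L ↔ (ψ : G → ℂ) g = (ψ : G → ℂ) 1) ∧ L < K := by
  obtain ⟨L, hLn, hL, -⟩ := CharTools.exists_kernel (CfsgLib.Char.IsIrrCharacter.isCharacter ψ.2)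
  haveI := hLn
  refine ⟨L, hL, lt_of_le_of_ne (kernel_le K M P hM L fun x hx => ?_) fun e => hnot fun k hk => ?_⟩
  · exact (hK x).2 (hker x hx.2 ((hL x).1 hx.1))
  · exact (hL k).1 (e ▸ hk)

/-- A Sylow subgroup of `K` lying in a normal subgroup `N ≤ K` forces `K ≤ N` modulo the
normalizer. -/
theorem le_of_sylow_le (K : Subgroup G) [K.Normal] (P : Sylow p K) (N : Subgroup G) [N.Normal]
    (hNK : N ≤ K)
    (hN : K ⊓ Subgroup.normalizer (((P : Subgroup K).map K.subtype : Subgroup G) : Set G) ≤ N) :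
    K ≤ N := by
  set Pm := (P : Subgroup K).map K.subtype with hPm
  have hPK : Pm ≤ K := Subgroup.map_subtype_le _
  have hPN : Pm ≤ N := (le_inf hPK Subgroup.le_normalizer).trans hN
  have hp' : IsPGroup p (Pm.subgroupOf N) :=
    (P.2.map _).of_equiv (Subgroup.subgroupOfEquivOfLe hPN).symm
  have hidx : ¬ p ∣ (Pm.subgroupOf N).index := fun hd => P.not_dvd_index <| by
    have h1 : Pm.subgroupOf K = (P : Subgroup K) :=
      Subgroup.comap_map_eq_self_of_injective K.subtype_injective _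
    rw [← h1]
    exact hd.trans ⟨N.relIndex K, (Subgroup.relIndex_mul_relIndex Pm N K hPN hNK).symm⟩
  have hmap : ((hp'.toSylow hidx : Sylow p N) : Subgroup N).map N.subtype = Pm := by
    rw [IsPGroup.toSylow_coe, Subgroup.map_subgroupOf_eq_of_le hPN]
  have htop := Sylow.normalizer_sup_eq_top (hp'.toSylow hidx)
  rw [hmap] at htop
  intro k hk
  obtain ⟨y, hy, n, hn, rfl⟩ :=
    (Subgroup.mem_sup_of_normal_right (t := N)).1 (htop ▸ Subgroup.mem_top k)
  exact N.mul_mem (hN ⟨(K.mul_mem_cancel_right (hNK hn)).1 hk, hy⟩) hn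

/-- The case of a kernel with a Sylow subgroup not normal in the group. -/
theorem exists_larger_of_sylow (χ : Cfsg.IrrCharacter G) (K : Subgroup G) [K.Normal]
    (hK : ∀ g, g ∈ K ↔ (χ : G → ℂ) g = (χ : G → ℂ) 1) (P : Sylow p K)
    (hP : ¬ ((P : Subgroup K).map K.subtype).Normal) :
    ∃ ψ : Cfsg.IrrCharacter G, Cfsg.charDegree (χ : G → ℂ) < Cfsg.charDegree (ψ : G → ℂ) ∧
      ∃ L : Subgroup G, (∀ g : G, g ∈ L ↔ (ψ : G → ℂ) g = (ψ : G → ℂ) 1) ∧ L < K := by
  letI := Fintype.ofFinite G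
  have hM : K = K ⊔ (P : Subgroup K).map K.subtype :=
    (sup_eq_left.2 (Subgroup.map_subtype_le _)).symm
  set H := Subgroup.normalizer (((P : Subgroup K).map K.subtype : Subgroup G) : Set G) with hH
  letI := Fintype.ofFinite H
  have hK' : ∀ k ∈ K, (χ : G → ℂ) k = (χ : G → ℂ) 1 := fun k hk => (hK k).1 hk
  have hKH : K ⊔ H = ⊤ := sup_normalizer_eq_top K K P hM
  have hθ := isIrrCharacter_restrict χ K H hK' hKH
  obtain ⟨ψ, hψ, hne⟩ : ∃ ψ : Cfsg.IrrCharacter G,
      Cfsg.classInner (fun h : H => (χ : G → ℂ) h) (fun h : H => (ψ : G → ℂ) h) ≠ 0 ∧ ψ ≠ χ := by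
    by_contra hcon
    push Not at hcon
    obtain ⟨m, hm, hdeg⟩ := CharTools.exists_degree_combination
      (CfsgLib.Char.IsCharacter.indFun (H := H) (CfsgLib.Char.IsIrrCharacter.isCharacter hθ))
    have hm' : ∀ ψ : Cfsg.IrrCharacter G, (m ψ : ℂ) =
        Cfsg.classInner (fun h : H => (χ : G → ℂ) h) (fun h : H => (ψ : G → ℂ) h) := fun ψ => by
      rw [← hm]
      exact CfsgLib.Char.classInner_indFun H _ _ (CfsgLib.Char.IsIrrCharacter.isClassFunction ψ.2)
    rw [Finset.sum_eq_single χ (fun ψ _ hne => ?_) (by simp)] at hdeg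
    · have h1 : (m χ : ℂ) = 1 := (hm' χ).trans (CfsgLib.Char.classInner_irr_self hθ)
      rw [Nat.cast_eq_one.1 h1, one_mul] at hdeg
      have h2 := congrArg (Nat.cast (R := ℂ)) hdeg
      rw [CharTools.irr_degree_cast, CharTools.degree_cast (CfsgLib.Char.IsCharacter.indFun (H := H)
        (CfsgLib.Char.IsIrrCharacter.isCharacter hθ)), CfsgLib.Char.indFun_apply_one] at h2
      simp only [OneMemClass.coe_one] at h2
      have h3 := mul_right_cancel₀ (CharTools.irr_apply_one_ne_zero χ)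
        (h2.trans (one_mul _).symm)
      exact hP (Subgroup.normalizer_eq_top_iff.1 (Subgroup.index_eq_one.1 (Nat.cast_eq_one.1 h3)))
    · have : m ψ = 0 := by
        by_contra h0
        exact hne (hcon ψ (by rw [← hm']; exact_mod_cast h0))
      rw [this, zero_mul]
  obtain ⟨hdeg, hker⟩ := pairing_facts χ ψ K H hK' hKH hψ
  have hnot : ¬ ∀ k ∈ K, (ψ : G → ℂ) k = (ψ : G → ℂ) 1 := by
    intro hall
    rcases hdeg with hlt | heq
    · obtain ⟨hKle, -⟩ := pairing_facts ψ χ K H hall hKH (by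
        rw [← CfsgLib.Char.classInner_conj_symm]; simpa using hψ)
      rcases hKle with hlt' | heq'
      · omega
      · exact hne (eq_of_restrict_eq χ ψ K H hK' hall hKH fun h => (heq' h).symm)
    · exact hne (eq_of_restrict_eq χ ψ K H hK' hall hKH heq)
  refine ⟨ψ, ?_, exists_kernel_lt χ ψ K hK K P hM hker hnot⟩
  rcases hdeg with hlt | heq
  · exact hlt
  · obtain ⟨L, hL, hLK⟩ := exists_kernel_lt χ ψ K hK K P hM hker hnot
    obtain ⟨L', hLn, hL', -⟩ := CharTools.exists_kernel (CfsgLib.Char.IsIrrCharacter.isCharacter ψ.2)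
    haveI := hLn
    refine absurd (fun k hk => (hL' k).1 (Subgroup.mem_inf.1 (le_of_sylow_le K P (L' ⊓ K) inf_le_right
      (fun x hx => ⟨(hL' x).2 ?_, hx.1⟩) hk)).1) hnot
    have h1 := heq ⟨x, hx.2⟩
    have h2 := heq ⟨1, H.one_mem⟩
    exact h1.trans ((hK' x hx.1).trans h2.symm)

/-- The case of a kernel equal to the Fitting subgroup below a solvable quotient. -/
theorem exists_larger_of_layer (χ : Cfsg.IrrCharacter G) (K M : Subgroup G) [K.Normal] [M.Normal]
    (hK : ∀ g, g ∈ K ↔ (χ : G → ℂ) g = (χ : G → ℂ) 1) (P : Sylow p M)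
    (hM : M = K ⊔ (P : Subgroup M).map M.subtype) (hMK : ¬ M ≤ K)
    (hab : ∀ a ∈ M, ∀ b ∈ M, a * b * a⁻¹ * b⁻¹ ∈ K) [Group.IsNilpotent K]
    (hO : ∀ O : Subgroup G, O.Normal → IsPGroup p O → O ≤ K) :
    ∃ ψ : Cfsg.IrrCharacter G, Cfsg.charDegree (χ : G → ℂ) < Cfsg.charDegree (ψ : G → ℂ) ∧
      ∃ L : Subgroup G, (∀ g : G, g ∈ L ↔ (ψ : G → ℂ) g = (ψ : G → ℂ) 1) ∧ L < K := by
  letI := Fintype.ofFinite G
  set Pm := (P : Subgroup M).map M.subtype with hPm
  set H := Subgroup.normalizer (Pm : Set G) with hH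
  letI := Fintype.ofFinite H
  have hK' : ∀ k ∈ K, (χ : G → ℂ) k = (χ : G → ℂ) 1 := fun k hk => (hK k).1 hk
  have hKH : K ⊔ H = ⊤ := sup_normalizer_eq_top K M P hM
  have hKM : K ≤ M := le_sup_left.trans hM.ge
  -- the commutators of `P` lie in the `p`-core of `M`
  haveI := CfsgLib.Solvable.pCore_normal p M
  set O := Cfsg.pCore p M with hOdef
  have hKP : ∀ x : M, x ∈ (P : Subgroup M) → (x : G) ∈ K → x ∈ O := by
    obtain ⟨Q⟩ := (inferInstance : Nonempty (Sylow p K))
    haveI : (Q : Subgroup K).Characteristic := Sylow.characteristic_of_normal _ inferInstance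
    haveI hQn : ((Q : Subgroup K).map K.subtype).Normal :=
      CfsgLib.Solvable.normal_map_subtype_of_characteristic K _
    intro x hx hxK
    have hQO : ((Q : Subgroup K).map K.subtype).subgroupOf M ≤ O :=
      CfsgLib.Solvable.le_pCore inferInstance
        ((Q.2.map _).of_equiv (Subgroup.subgroupOfEquivOfLe
          ((Subgroup.map_subtype_le _).trans hKM)).symm)
    refine hQO (Subgroup.mem_subgroupOf.2 ⟨⟨x, hxK⟩, ?_, rfl⟩)
    have hxp : IsPGroup p (Subgroup.zpowers (⟨x, hxK⟩ : K)) := by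
      obtain ⟨k, hk⟩ := P.2 ⟨x, hx⟩
      exact isPGroup_zpowers_of_pow (k := k) (Subtype.ext (by
        simpa using congrArg Subtype.val (congrArg Subtype.val hk)))
    obtain ⟨R, hR⟩ := hxp.exists_le_sylow
    haveI := Sylow.unique_of_normal Q inferInstance
    rw [Subsingleton.elim R Q] at hR
    exact hR (Subgroup.mem_zpowers _)
  have hbar : IsMulCommutative (P.mapSurjective (QuotientGroup.mk'_surjective O)) := by
    refine ⟨⟨?_⟩⟩
    rintro ⟨_, a, ha, rfl⟩ ⟨_, b, hb, rfl⟩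
    refine Subtype.ext ?_
    show ((a * b : M) : M ⧸ O) = ((b * a : M) : M ⧸ O)
    refine (QuotientGroup.eq.2 ?_).symm
    have hmem : a⁻¹ * b⁻¹ * a⁻¹⁻¹ * b⁻¹⁻¹ ∈ O :=
      hKP _ (mul_mem (mul_mem (mul_mem (inv_mem ha) (inv_mem hb)) (inv_mem (inv_mem ha))) (inv_mem (inv_mem hb)))
        (by simpa using hab _ (inv_mem (a.2)) _ (inv_mem (b.2)))
    simpa [mul_assoc] using hmem
  obtain ⟨mbar, hmbar⟩ := Cfsg.Agent.S0060.result p _ hbar
    (CfsgLib.Solvable.pCore_quotient_eq_bot O rfl)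
  obtain ⟨m, rfl⟩ := QuotientGroup.mk_surjective mbar
  have hOK : ∀ x : M, x ∈ O → (x : G) ∈ K := fun x hx => by
    haveI : O.Characteristic := CfsgLib.Solvable.pCore_characteristic (p := p) M
    exact hO _ (CfsgLib.Solvable.normal_map_subtype_of_characteristic M O)
      ((CfsgLib.Solvable.pCore_isPGroup p M).map _) ⟨x, hx, rfl⟩
  -- the conjugate of `H` meets `P` inside `K`
  obtain ⟨ψ, hψ, hfix⟩ := exists_pair χ H Pm ((m : G)⁻¹) (by
    rintro _ ⟨x, hx, rfl⟩ hxH
    refine hK' _ (hOK x ?_)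
    have h1 : ((m : G)⁻¹ * x * m) ∈ H := by simpa using hxH
    have h2 : m⁻¹ * x * m ∈ (P : Subgroup M) := by
      have hn : m⁻¹ * x * m ∈ Subgroup.normalizer ((P : Subgroup M) : Set M) := by
        rw [Subgroup.mem_normalizer_iff]
        intro y
        have e : (m : G)⁻¹ * x * m * y * ((m : G)⁻¹ * x * m)⁻¹ =
            M.subtype (m⁻¹ * x * m * y * (m⁻¹ * x * m)⁻¹) := by simp
        have h := Subgroup.mem_normalizer_iff.1 h1 (M.subtype y)
        rw [Subgroup.coe_subtype, e] at h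
        rw [hPm] at h
        change (M.subtype y ∈ _ ↔ _) at h
        rwa [Subgroup.mem_map_iff_mem M.subtype_injective,
          Subgroup.mem_map_iff_mem M.subtype_injective] at h
      obtain ⟨k, hk⟩ := P.2 ⟨x, hx⟩
      have hk' : x ^ p ^ k = 1 := congrArg Subtype.val hk
      have hz : IsPGroup p (Subgroup.zpowers (m⁻¹ * x * m)) := by
        refine isPGroup_zpowers_of_pow (k := k) ?_
        have := conj_pow (i := p ^ k) (a := m⁻¹) (b := x)
        simp only [inv_inv] at this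
        rw [this, hk']; simp
      have hle : Subgroup.zpowers (m⁻¹ * x * m) ≤ Subgroup.normalizer ((P : Subgroup M) : Set M) :=
        Subgroup.zpowers_le.2 hn
      have hsup := P.is_maximal' (hz.to_sup_of_normal_right' P.2 hle) le_sup_right
      exact hsup.le (Subgroup.mem_sup_left (Subgroup.mem_zpowers _))
    have h3 : ((x : M) : M ⧸ O) ∈ ((P.mapSurjective (QuotientGroup.mk'_surjective O)) : Subgroup (M ⧸ O)) ⊓
        MulAut.conj (m : M ⧸ O) • (P.mapSurjective (QuotientGroup.mk'_surjective O) : Subgroup (M ⧸ O)) := by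
      refine ⟨⟨x, hx, rfl⟩, ?_⟩
      show _ ∈ MulAut.conj (m : M ⧸ O) • (P.mapSurjective (QuotientGroup.mk'_surjective O) : Subgroup (M ⧸ O))
      rw [Subgroup.mem_pointwise_smul_iff_inv_smul_mem]
      exact ⟨_, h2, by simp [MulAut.smul_def]⟩
    rw [hmbar, Subgroup.mem_bot, QuotientGroup.eq_one_iff] at h3
    exact h3)
  -- the sum of `χ` over `P` vanishes
  have hzero : ∑ x ∈ Finset.univ.filter (· ∈ Pm), (χ : G → ℂ) x = 0 := by
    obtain ⟨n, ρ, hρ, hc⟩ := χ.2
    haveI := hρ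
    have hker : ∀ k ∈ K, ρ k = 1 := fun k hk => by
      have := hK' k hk
      rw [← hc, Representation.char_one, CfsgLib.Char.character_eq_degree_iff] at this
      exact this
    have hbot : CharKernel.fixedSpace ρ M = ⊥ := by
      refine CharKernel.fixedSpace_eq_bot ρ M ?_
      obtain ⟨x, hx, hxK⟩ := SetLike.not_le_iff_exists.1 hMK
      refine ⟨x, hx, fun h => hxK ((hK x).2 ?_)⟩
      rw [← hc]
      simp [Representation.character, h]
    have heq : CharKernel.fixedSpace ρ Pm = CharKernel.fixedSpace ρ M := by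
      refine le_antisymm (fun v hv => ?_) fun v hv => ?_
      · rw [CharKernel.mem_fixedSpace] at hv ⊢
        intro y hy
        obtain ⟨k, hk, z, hz, rfl⟩ :=
          (Subgroup.mem_sup_of_normal_left (s := K) (t := Pm)).1 (hM ▸ hy : y ∈ K ⊔ Pm)
        rw [map_mul, hker k hk, one_mul]
        exact hv z hz
      · rw [CharKernel.mem_fixedSpace] at hv ⊢
        exact fun y hy => hv y (Subgroup.map_subtype_le _ hy)
    letI := Fintype.ofFinite Pm
    haveI : Invertible (Nat.card Pm : ℂ) := invertibleOfNonzero (by simp [Nat.card_pos.ne'])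
    have h := Representation.card_inv_mul_sum_char_eq_finrank
      (ρ.comp Pm.subtype : Representation ℂ Pm (Fin n → ℂ))
    have hbot' : Representation.invariants (ρ.comp Pm.subtype : Representation ℂ Pm (Fin n → ℂ)) = ⊥ :=
      heq.trans hbot
    rw [hbot', finrank_bot, Nat.cast_zero, mul_eq_zero] at h
    have h' := h.resolve_left (by simp [Nat.card_pos.ne'])
    rw [Finset.sum_subtype _ (fun x => by simp) (p := fun x => x ∈ Pm), ← h', ← hc]
    rfl
  obtain ⟨hdeg, hker⟩ := pairing_facts χ ψ K H hK' hKH hψ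
  have hne : ¬ ∀ h : H, (ψ : G → ℂ) h = (χ : G → ℂ) h := fun heq => hfix (by
    rw [← hzero]
    exact Finset.sum_congr rfl fun x hx => heq ⟨x, Subgroup.le_normalizer (Finset.mem_filter.1 hx).2⟩)
  refine ⟨ψ, hdeg.resolve_right hne, exists_kernel_lt χ ψ K hK M P hM hker fun hall => hne ?_⟩
  obtain ⟨h1, -⟩ := pairing_facts ψ χ K H hall hKH (by
    rw [← CfsgLib.Char.classInner_conj_symm]; simpa using hψ)
  rcases h1 with hlt | heq
  · exact absurd hlt (not_lt.2 (hdeg.resolve_right hne).le)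
  · exact fun h => (heq h).symm

/-- **Isaacs 12.19**. -/
theorem exists_larger (χ : Cfsg.IrrCharacter G) (K : Subgroup G) [K.Normal]
    (hK : ∀ g : G, g ∈ K ↔ (χ : G → ℂ) g = (χ : G → ℂ) 1)
    (h : ¬ K ≤ Cfsg.fittingSubgroup G ∨
      (K = Cfsg.fittingSubgroup G ∧ Group.IsSolvable (G ⧸ K) ∧ K ≠ ⊤)) :
    ∃ ψ : Cfsg.IrrCharacter G, Cfsg.charDegree (χ : G → ℂ) < Cfsg.charDegree (ψ : G → ℂ) ∧
      ∃ L : Subgroup G, (∀ g : G, g ∈ L ↔ (ψ : G → ℂ) g = (ψ : G → ℂ) 1) ∧ L < K := by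
  rcases h with hF | ⟨hKF, hsolv, htop⟩
  · have hnil : ¬ Group.IsNilpotent K := fun h => hF (CfsgLib.Solvable.le_fittingSubgroup ‹_› h)
    rw [((Group.isNilpotent_of_finite_tfae (G := K)).out 0 3 :
      Group.IsNilpotent K ↔ ∀ (p : ℕ) (_hp : Fact p.Prime) (P : Sylow p K), (P : Subgroup K).Normal)] at hnil
    push Not at hnil
    obtain ⟨q, hq, P, hP⟩ := hnil
    haveI := hq
    refine exists_larger_of_sylow χ K hK P fun hn => hP ?_
    rw [← Subgroup.comap_map_eq_self_of_injective K.subtype_injective (P : Subgroup K)]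
    exact hn.comap _
  · haveI := hsolv
    haveI : Nontrivial (G ⧸ K) := QuotientGroup.nontrivial_iff.2 htop
    have htop' : (⊤ : Subgroup (G ⧸ K)) ≠ ⊥ := top_ne_bot
    obtain ⟨E, hEn, hE, hEab⟩ := CfsgLib.SuzukiSub.exists_normal_abelian hsolv
    haveI : IsMulCommutative E := ⟨⟨fun a b => Subtype.ext (hEab a a.2 b b.2)⟩⟩
    haveI := Subgroup.nontrivial_iff_ne_bot E |>.2 hE
    obtain ⟨q, hq, hqE⟩ := Nat.exists_prime_and_dvd (Finite.one_lt_card (α := E)).ne'
    haveI : Fact q.Prime := ⟨hq⟩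
    obtain ⟨S⟩ := (inferInstance : Nonempty (Sylow q E))
    haveI : (S : Subgroup E).Characteristic := Sylow.characteristic_of_normal _ inferInstance
    haveI hVn : ((S : Subgroup E).map E.subtype).Normal :=
      CfsgLib.Solvable.normal_map_subtype_of_characteristic E _
    set M := ((S : Subgroup E).map E.subtype).comap (QuotientGroup.mk' K) with hMdef
    haveI : M.Normal := hVn.comap _
    have hKM : K ≤ M := fun k hk => by
      simp [hMdef, (QuotientGroup.eq_one_iff k).2 hk]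
    have hMK : ¬ M ≤ K := fun hle => by
      refine (S.ne_bot_of_dvd_card hqE) ?_
      rw [eq_bot_iff]
      intro y hy
      obtain ⟨g, hg⟩ := QuotientGroup.mk_surjective (y : G ⧸ K)
      have : g ∈ M := ⟨y, hy, hg.symm⟩
      rw [Subgroup.mem_bot]
      exact Subtype.ext (hg.symm.trans ((QuotientGroup.eq_one_iff g).2 (hle this)))
    obtain ⟨P⟩ := (inferInstance : Nonempty (Sylow q M))
    haveI hKnil : Group.IsNilpotent K := by
      rw [hKF]; exact CfsgLib.Solvable.fittingSubgroup_isNilpotent G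
    refine exists_larger_of_layer χ K M hK P ?_ hMK (fun a ha b hb => ?_) fun O hO hOp => ?_
    · refine le_antisymm (fun y hy => ?_) (sup_le hKM (Subgroup.map_subtype_le _))
      let f : M →* G ⧸ K := (QuotientGroup.mk' K).comp M.subtype
      have hrange : IsPGroup q f.range := (S.2.map E.subtype).to_le (by
        rintro _ ⟨z, rfl⟩
        exact z.2)
      let f' := f.rangeRestrict
      have htop : ((P.mapSurjective f.rangeRestrict_surjective : Sylow q f.range) : Subgroup f.range) = ⊤ :=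
        ((P.mapSurjective f.rangeRestrict_surjective).is_maximal'
          (hrange.of_equiv Subgroup.topEquiv.symm) le_top).symm
      obtain ⟨z, hz, hzy⟩ : f.rangeRestrict ⟨y, hy⟩ ∈
          (P : Subgroup M).map f.rangeRestrict := by
        rw [← Sylow.coe_mapSurjective f.rangeRestrict_surjective, htop]
        exact Subgroup.mem_top _
      have h1 : (y : G) * (z : G)⁻¹ ∈ K := by
        have h2 : ((z : G) : G ⧸ K) = (y : G ⧸ K) := congrArg Subtype.val hzy
        rw [← QuotientGroup.eq_one_iff, QuotientGroup.mk_mul, QuotientGroup.mk_inv, h2, mul_inv_cancel]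
      have h3 := Subgroup.mul_mem_sup h1 (show (z : G) ∈ (P : Subgroup M).map M.subtype from ⟨z, hz, rfl⟩)
      rwa [inv_mul_cancel_right] at h3
    · rw [← QuotientGroup.eq_one_iff]
      obtain ⟨a', ha', hae⟩ := ha
      obtain ⟨b', hb', hbe⟩ := hb
      simp only [QuotientGroup.mk_mul, QuotientGroup.mk_inv]
      rw [show (a : G ⧸ K) = _ from hae.symm, show (b : G ⧸ K) = _ from hbe.symm]
      have := hEab a' a'.2 b' b'.2
      simp [this]
    · rw [hKF]
      exact CfsgLib.Solvable.le_fittingSubgroup hO hOp.isNilpotent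

end CfsgLib.DegFit
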