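import Cfsg.Agent.Lib.DegFit.Main

/-!
# The nilpotent length of a solvable group is at most the number of its degrees
-/

set_option autoImplicit false

open scoped Classical
open CfsgLib

namespace CfsgLib.DegFit

universe u

/-- The set of irreducible character degrees. -/
def degSet (G : Type u) [Group G] : Set ℕ :=
  {d | ∃ χ : Cfsg.IrrCharacter G, Cfsg.charDegree (χ : G → ℂ) = d}

theorem degSet_finite (G : Type u) [Group G] [Finite G] : (degSet G).Finite := by
  haveI := Fintype.ofFinite G
  exact (Set.finite_range fun χ : Cfsg.IrrCharacter G => Cfsg.charDegree (χ : G → ℂ)).subset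
    fun d ⟨χ, h⟩ => ⟨χ, h⟩

theorem one_mem_degSet (G : Type u) [Group G] [Finite G] : 1 ∈ degSet G :=
  ⟨CfsgLib.Char.principalIrr, CharTools.charDegree_principal⟩

/-- A nilpotent series of length `n`. -/
def HasSeries (G : Type u) [Group G] (n : ℕ) : Prop :=
  ∃ N : Fin (n + 1) → Subgroup G, N 0 = ⊥ ∧ N (Fin.last n) = ⊤ ∧ Monotone N ∧
    (∀ i, (N i).Normal) ∧
    ∀ i : Fin n, ∀ h : (N i.castSucc).subgroupOf (N i.succ) |>.Normal,
      Group.IsNilpotent (↥(N i.succ) ⧸ (N i.castSucc).subgroupOf (N i.succ))

theorem hasSeries_of_isNilpotent (G : Type u) [Group G] [Group.IsNilpotent G] (n : ℕ) :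
    HasSeries G (n + 1) := by
  refine ⟨fun i => if i = 0 then ⊥ else ⊤, if_pos rfl, if_neg (by simp [Fin.ext_iff]),
    fun i j hij => ?_, fun i => ?_, fun i h => ?_⟩
  · dsimp only
    split_ifs with h1 h2
    · exact le_rfl
    · exact bot_le
    · rename_i h2
      subst h2
      exact absurd (le_antisymm hij (Fin.zero_le _)) h1
    · exact le_rfl
  · dsimp only
    split_ifs <;> infer_instance
  · haveI := h
    exact Group.nilpotent_of_surjective (QuotientGroup.mk' _) (QuotientGroup.mk'_surjective _)

theorem hasSeries_extend {G : Type u} [Group G] (F : Subgroup G) [F.Normal] [Group.IsNilpotent F]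
    {n : ℕ} (h : HasSeries (G ⧸ F) n) : HasSeries G (n + 1) := by
  obtain ⟨N, h0, hlast, hmono, hn, hq⟩ := h
  let π := QuotientGroup.mk' F
  refine ⟨Fin.cons ⊥ fun i => (N i).comap π, rfl, ?_, ?_, ?_, ?_⟩
  · rw [← Fin.succ_last, Fin.cons_succ, hlast, Subgroup.comap_top]
  · intro i j hij
    induction i using Fin.cases with
    | zero => simp
    | succ i =>
      induction j using Fin.cases with
      | zero => exact absurd hij (not_le.2 (Fin.succ_pos i))
      | succ j => simpa using Subgroup.comap_mono (hmono (Fin.succ_le_succ_iff.1 hij))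
  · intro i
    induction i using Fin.cases with
    | zero => simpa using (inferInstance : (⊥ : Subgroup G).Normal)
    | succ i => simpa using (hn i).comap π
  · intro i h
    haveI := h
    induction i using Fin.cases with
    | zero =>
      haveI : Group.IsNilpotent ↥((Fin.cons ⊥ fun i => (N i).comap π : Fin (n + 2) → Subgroup G)
          (0 : Fin (n + 1)).succ) := by
        rw [Fin.cons_succ, h0, MonoidHom.comap_bot, QuotientGroup.ker_mk']
        infer_instance
      exact Group.nilpotent_of_surjective (QuotientGroup.mk' _) (QuotientGroup.mk'_surjective _)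
    | succ i =>
      set A : Subgroup G := (Fin.cons ⊥ fun i => (N i).comap π : Fin (n + 2) → Subgroup G)
        i.succ.castSucc with hA
      set B : Subgroup G := (Fin.cons ⊥ fun i => (N i).comap π : Fin (n + 2) → Subgroup G)
        i.succ.succ with hB
      have hA' : A = (N i.castSucc).comap π := by
        rw [hA, ← Fin.succ_castSucc, Fin.cons_succ]
      have hB' : B = (N i.succ).comap π := by rw [hB, Fin.cons_succ]
      haveI hnn : ((N i.castSucc).subgroupOf (N i.succ)).Normal := by
        haveI := hn i.castSucc
        infer_instance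
      haveI := hq i hnn
      let f : B →* ↥(N i.succ) ⧸ (N i.castSucc).subgroupOf (N i.succ) :=
        (QuotientGroup.mk' _).comp ((π.comp B.subtype).codRestrict (N i.succ) fun x => by
          have hx := x.2
          simp only [hB', Subgroup.mem_comap] at hx
          exact hx)
      have hf : Function.Surjective f := by
        intro q
        obtain ⟨⟨y, hy⟩, rfl⟩ := QuotientGroup.mk_surjective q
        obtain ⟨g, rfl⟩ := QuotientGroup.mk'_surjective F y
        exact ⟨⟨g, by rw [hB']; exact hy⟩, rfl⟩
      have hker : f.ker = A.subgroupOf B := by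
        ext x
        rw [MonoidHom.mem_ker, Subgroup.mem_subgroupOf, hA', Subgroup.mem_comap]
        exact (QuotientGroup.eq_one_iff _).trans Subgroup.mem_subgroupOf
      exact Group.nilpotent_of_mulEquiv
        ((QuotientGroup.quotientMulEquivOfEq hker.symm).trans
          (QuotientGroup.quotientKerEquivOfSurjective f hf)).symm

theorem isNilpotent_of_degree_one (G : Type u) [Group G] [Finite G]
    (h : ∀ χ : Cfsg.IrrCharacter G, Cfsg.charDegree (χ : G → ℂ) = 1) : Group.IsNilpotent G := by
  haveI := Fintype.ofFinite G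
  refine CfsgLib.Solvable.isNilpotent_of_comm fun a b => ?_
  have h1 : Nat.card (ConjClasses G) = Nat.card G := by
    rw [← CfsgLib.Char.card_irrCharacter (G := G), ← CharTools.sum_degree_sq' (G := G),
      Nat.card_eq_fintype_card]
    simp [h]
  haveI := Fintype.ofFinite (ConjClasses G)
  have hinj : Function.Injective (ConjClasses.mk : G → ConjClasses G) :=
    ((Fintype.bijective_iff_surjective_and_card _).2 ⟨ConjClasses.mk_surjective, by
      rw [← Nat.card_eq_fintype_card, ← Nat.card_eq_fintype_card, h1]⟩).1
  have h2 : ConjClasses.mk (b * (a * b) * b⁻¹) = ConjClasses.mk (a * b) :=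
    ConjClasses.mk_eq_mk_iff_isConj.2 (isConj_iff.2 ⟨b⁻¹, by group⟩)
  have h3 := hinj h2
  simpa [mul_assoc] using h3.symm

theorem hasSeries_of_card (N : ℕ) : ∀ (G : Type u) [Group G] [Finite G], Nat.card G ≤ N →
    Group.IsSolvable G → ∀ n, (degSet G).ncard ≤ n → HasSeries G n := by
  induction N with
  | zero => intro G _ _ h; exact absurd h (not_le.2 Nat.card_pos)
  | succ N ih =>
    intro G _ _ hcard hsolv n hn
    have h1 := one_mem_degSet G
    have hpos : 1 ≤ (degSet G).ncard := by
      rw [Nat.one_le_iff_ne_zero, Ne, Set.ncard_eq_zero (degSet_finite G)]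
      exact Set.nonempty_iff_ne_empty.1 ⟨1, h1⟩
    obtain ⟨m, rfl⟩ : ∃ m, n = m + 1 := ⟨n - 1, by omega⟩
    set F := Cfsg.fittingSubgroup G with hF
    haveI : F.Normal := CfsgLib.Solvable.fittingSubgroup_normal G
    haveI : Group.IsNilpotent F := CfsgLib.Solvable.fittingSubgroup_isNilpotent G
    by_cases htop : F = ⊤
    · haveI : Group.IsNilpotent G := Group.nilpotent_of_mulEquiv
        ((MulEquiv.subgroupCongr htop).trans Subgroup.topEquiv)
      exact hasSeries_of_isNilpotent G m
    haveI := hsolv
    haveI : Nontrivial G := by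
      by_contra hn
      rw [not_nontrivial_iff_subsingleton] at hn
      exact htop (Subsingleton.elim _ _)
    have hFbot : F ≠ ⊥ := CfsgLib.Solvable.fittingSubgroup_ne_bot
    refine hasSeries_extend F (ih (G ⧸ F) ?_ inferInstance m ?_)
    · have hc := Subgroup.card_eq_card_quotient_mul_card_subgroup F
      have h2 : 1 < Nat.card F := by
        haveI := (Subgroup.nontrivial_iff_ne_bot F).2 hFbot
        exact Finite.one_lt_card
      have h4 := Nat.mul_le_mul_left (Nat.card (G ⧸ F)) h2
      have h5 : 0 < Nat.card (G ⧸ F) := Nat.card_pos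
      omega
    · obtain ⟨d, hd, hmax⟩ := Set.exists_max_image (degSet G) id (degSet_finite G) ⟨1, h1⟩
      refine le_trans (Set.ncard_le_ncard (t := degSet G \ {d}) ?_ ((degSet_finite G).subset
        Set.sdiff_subset)) ?_
      · rintro e ⟨η, rfl⟩
        obtain ⟨χ, hχ⟩ : ∃ χ : Cfsg.IrrCharacter G, (χ : G → ℂ) = fun g : G => (η : G ⧸ F → ℂ) g :=
          ⟨⟨_, CharTools.isIrrCharacter_comp (QuotientGroup.mk' F)
            (QuotientGroup.mk'_surjective F) η.2⟩, rfl⟩
        have hdeg : Cfsg.charDegree (χ : G → ℂ) = Cfsg.charDegree (η : G ⧸ F → ℂ) := by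
          rw [hχ]; rfl
        refine ⟨⟨χ, hdeg⟩, fun he => ?_⟩
        obtain ⟨K, hKn, hK, -⟩ :=
          CharTools.exists_kernel (CfsgLib.Char.IsIrrCharacter.isCharacter χ.2)
        haveI := hKn
        have hFK : F ≤ K := fun x hx => by
          rw [hK, hχ]
          simp [(QuotientGroup.eq_one_iff x).2 hx]
        by_cases hKt : K = ⊤
        · -- all degrees are one
          refine htop (top_le_iff.1 (CfsgLib.Solvable.le_fittingSubgroup inferInstance
            (Group.isNilpotent_top.2 (isNilpotent_of_degree_one G fun φ => ?_))))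
          have h3 := hmax _ ⟨φ, rfl⟩
          obtain ⟨ω, hω⟩ : ∃ ω : ℕ, ω = Cfsg.charDegree (χ : G → ℂ) := ⟨_, rfl⟩
          have h4 : Cfsg.charDegree (χ : G → ℂ) = 1 := by
            obtain ⟨nn, ρ, hρ, hc⟩ := χ.2
            haveI := hρ
            have hall : ∀ g, ρ g = 1 := fun g => by
              have := (hK g).1 (hKt ▸ Subgroup.mem_top g)
              rw [← hc, Representation.char_one, CfsgLib.Char.character_eq_degree_iff] at this
              exact this
            show CfsgLib.Char.degree (χ : G → ℂ) = 1
            rw [← hc, CfsgLib.Char.degree_character, CharKernel.finrank_eq_one_of_trivial ρ hall]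
          have h5 := CharTools.irr_degree_pos φ
          simp only [id, Set.mem_singleton_iff] at h3 he
          omega
        have hor : ¬ K ≤ F ∨ (K = F ∧ Group.IsSolvable (G ⧸ K) ∧ K ≠ ⊤) := by
          by_cases h : K ≤ F
          · exact Or.inr ⟨le_antisymm h hFK, inferInstance, hKt⟩
          · exact Or.inl h
        obtain ⟨ψ, hψ, -⟩ := exists_larger χ K hK hor
        have h3 := hmax _ ⟨ψ, rfl⟩
        simp only [id, Set.mem_singleton_iff] at h3 he
        omega
      · rw [Set.ncard_sdiff_singleton_of_mem hd]
        omega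

end CfsgLib.DegFit
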